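import Groth.Agent.FlatCrit.Local
import Mathlib

/-!
# Complexes which are exact modulo the maximal ideal of the base
-/

set_option autoImplicit false

universe u

open TensorProduct IsLocalRing

namespace Groth.Agent.CAlgFlat

theorem one_tmul_eq_zero_iff {R M : Type u} [CommRing R] [AddCommGroup M] [Module R M] (I : Ideal R) (x : M) :
    (1 : R ⧸ I) ⊗ₜ[R] x = 0 ↔ x ∈ (I • ⊤ : Submodule R M) := by
  rw [← (TensorProduct.quotTensorEquivQuotSMul M I).injective.eq_iff, map_zero,
    TensorProduct.quotTensorEquivQuotSMul_mk_one_tmul, Submodule.Quotient.mk_eq_zero]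

theorem exists_one_tmul {R M : Type u} [CommRing R] [AddCommGroup M] [Module R M] (I : Ideal R)
    (z : (R ⧸ I) ⊗[R] M) : ∃ x : M, z = (1 : R ⧸ I) ⊗ₜ[R] x := by
  obtain ⟨x, hx⟩ := Submodule.Quotient.mk_surjective _ (TensorProduct.quotTensorEquivQuotSMul M I z)
  exact ⟨x, (TensorProduct.quotTensorEquivQuotSMul M I).injective
    (by rw [TensorProduct.quotTensorEquivQuotSMul_mk_one_tmul, hx])⟩

theorem mem_smul_top_iff {R S M : Type u} [CommRing R] [CommRing S] [Algebra R S] [AddCommGroup M]
    [Module R M] [Module S M] [IsScalarTower R S M] (I : Ideal R) (x : M) :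
    x ∈ (I.map (algebraMap R S) • ⊤ : Submodule S M) ↔ x ∈ (I • ⊤ : Submodule R M) := by
  rw [← Submodule.restrictScalars_mem R, Ideal.smul_restrictScalars]
  rfl

variable {R S : Type u} [CommRing R] [IsLocalRing R] [CommRing S] [Algebra R S] [IsNoetherianRing S]
  (hS : (maximalIdeal R).map (algebraMap R S) ≤ Ideal.jacobson ⊥)
  (F : ℕ → Type u) [∀ j, AddCommGroup (F j)] [∀ j, Module S (F j)] [∀ j, Module R (F j)]
  [∀ j, IsScalarTower R S (F j)] [∀ j, Module.Finite S (F j)] [∀ j, Module.Flat R (F j)]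
  (d : ∀ i j, F i →ₗ[S] F j)

include hS in
/-- Exactness modulo the maximal ideal gives exactness with flat cokernels. -/
theorem exact_and_flat {e : ℕ} (hzero : ∀ j, e < j → Subsingleton (F j))
    (hcomp : ∀ i j k (x : F i), d j k (d i j x) = 0)
    (hex : ∀ j, j + 1 ≤ e → Function.Exact ((d (j + 2) (j + 1)).lTensor (S ⧸ (maximalIdeal R).map (algebraMap R S)))
      ((d (j + 1) j).lTensor (S ⧸ (maximalIdeal R).map (algebraMap R S)))) :
    ∀ m j, e ≤ j + m → Module.Flat R (F j ⧸ LinearMap.range (d (j + 1) j)) ∧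
      Function.Exact (d (j + 2) (j + 1)) (d (j + 1) j) := by
  intro m
  induction m with
  | zero =>
    intro j hj
    haveI := hzero (j + 1) (by omega)
    haveI := hzero (j + 2) (by omega)
    refine ⟨?_, fun x => ⟨fun _ => ⟨0, Subsingleton.elim _ _⟩, fun _ => ?_⟩⟩
    · have hbot : LinearMap.range (d (j + 1) j) = ⊥ := by
        rw [LinearMap.range_eq_bot]
        ext x
        rw [Subsingleton.elim x 0, map_zero, map_zero]
      exact Module.Flat.of_linearEquiv ((Submodule.quotEquivOfEqBot _ hbot).restrictScalars R)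
    · rw [Subsingleton.elim x 0, map_zero]
  | succ m ih =>
    intro j hj
    by_cases hje : e ≤ j + m
    · exact ih j hje
    obtain ⟨hflat, -⟩ := ih (j + 1) (by omega)
    let Q := F (j + 1) ⧸ LinearMap.range (d (j + 2) (j + 1))
    let uS : Q →ₗ[S] F j := Submodule.liftQ _ (d (j + 1) j) (by
      rintro _ ⟨x, rfl⟩
      exact hcomp _ _ _ x)
    have hu : Function.Injective ((uS.restrictScalars R).lTensor (R ⧸ maximalIdeal R)) := by
      rw [injective_iff_map_eq_zero]
      intro z hz
      obtain ⟨q, rfl⟩ := exists_one_tmul _ z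
      obtain ⟨x, rfl⟩ := Submodule.Quotient.mk_surjective _ q
      rw [LinearMap.lTensor_tmul, one_tmul_eq_zero_iff] at hz
      have hz' : d (j + 1) j x ∈ (maximalIdeal R • ⊤ : Submodule R (F j)) := hz
      rw [← mem_smul_top_iff (S := S), ← one_tmul_eq_zero_iff] at hz'
      obtain ⟨y, hy⟩ := (hex j (by omega) ((1 : S ⧸ (maximalIdeal R).map (algebraMap R S)) ⊗ₜ[S] x)).1 (by
        rw [LinearMap.lTensor_tmul]; exact hz')
      obtain ⟨w, rfl⟩ := exists_one_tmul _ y
      rw [LinearMap.lTensor_tmul, eq_comm, ← sub_eq_zero, ← TensorProduct.tmul_sub, one_tmul_eq_zero_iff,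
        mem_smul_top_iff] at hy
      rw [one_tmul_eq_zero_iff]
      have h1 : (Submodule.Quotient.mk x : Q) =
          ((LinearMap.range (d (j + 2) (j + 1))).mkQ.restrictScalars R) (x - d (j + 2) (j + 1) w) := by
        rw [LinearMap.restrictScalars_apply, map_sub, Submodule.mkQ_apply, Submodule.mkQ_apply,
          (Submodule.Quotient.mk_eq_zero _).2 (LinearMap.mem_range_self _ w), sub_zero]
      rw [h1]
      have h2 := Submodule.mem_map_of_mem (f := (LinearMap.range (d (j + 2) (j + 1))).mkQ.restrictScalars R) hy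
      rw [Submodule.map_smul''] at h2
      exact Submodule.smul_mono le_rfl le_top h2
    obtain ⟨hinj, hcoker⟩ := FlatCrit.injective_and_flat_coker (S := S) hS (uS.restrictScalars R) hu
    refine ⟨?_, fun x => ⟨fun hx => ?_, ?_⟩⟩
    · haveI := hcoker
      have hr : LinearMap.range uS = LinearMap.range (d (j + 1) j) := Submodule.range_liftQ _ _ _
      let eq : (F j ⧸ LinearMap.range (d (j + 1) j)) ≃ₗ[R] F j ⧸ LinearMap.range (uS.restrictScalars R) :=
        ((Submodule.Quotient.restrictScalarsEquiv R _).symm).trans (Submodule.quotEquivOfEq _ _ (by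
          rw [← hr]; rfl))
      exact Module.Flat.of_linearEquiv eq
    · have : (Submodule.Quotient.mk x : Q) = 0 := hinj (by rw [map_zero]; exact hx)
      exact (Submodule.Quotient.mk_eq_zero _).1 this
    · rintro ⟨y, rfl⟩
      exact hcomp _ _ _ y

end Groth.Agent.CAlgFlat
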