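import Groth.Agent.FlatCrit.Basic
import Mathlib

/-!
# Flatness in commutative squares of local rings
-/

set_option autoImplicit false

universe u

open TensorProduct IsLocalRing

namespace Groth.Agent.CAlgFlat

/-- Tensor of a flat algebra-module with a flat module over the intermediate ring. -/
theorem flat_tensor (R S N M : Type u) [CommRing R] [CommRing S] [Algebra R S] [AddCommGroup N] [Module S N]
    [Module R N] [IsScalarTower R S N] [Module.Flat S N] [AddCommGroup M] [Module S M] [Module R M]
    [IsScalarTower R S M] [Module.Flat R M] : Module.Flat R (N ⊗[S] M) := by
  refine Module.Flat.iff_lTensor_preserves_injective_linearMap.2 fun P P' _ _ _ _ f hf => ?_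
  let g : M ⊗[R] P →ₗ[S] M ⊗[R] P' := AlgebraTensorModule.lTensor S M f
  have hg : Function.Injective g := Module.Flat.lTensor_preserves_injective_linearMap f hf
  have h2 : Function.Injective (LinearMap.lTensor N g) := Module.Flat.lTensor_preserves_injective_linearMap g hg
  have hcomm : ∀ x, (AlgebraTensorModule.assoc R S S N M P') (LinearMap.lTensor (N ⊗[S] M) f x) =
      LinearMap.lTensor N g ((AlgebraTensorModule.assoc R S S N M P) x) := by
    intro x
    induction x using TensorProduct.induction_on with
    | zero => simp
    | tmul z p =>
      induction z using TensorProduct.induction_on with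
      | zero => simp
      | tmul a b => rfl
      | add u v hu hv => simp only [TensorProduct.add_tmul, map_add, hu, hv]
    | add u v hu hv => simp only [map_add, hu, hv]
  have h3 : Function.Injective (LinearMap.lTensor (N ⊗[S] M) f) := fun x y hxy =>
    (AlgebraTensorModule.assoc R S S N M P).injective (h2 (by rw [← hcomm, ← hcomm, hxy]))
  exact h3

end Groth.Agent.CAlgFlat
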